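import Groth.Agent.ModSiteLib.Grothendieck
import Mathlib

/-! Functorial injective embeddings. -/

set_option autoImplicit false
open CategoryTheory Limits MorphismProperty
open scoped ZeroObject
universe w v u

namespace InjEmbLib

theorem exists_functorial_injective (C : Type u) [Category.{v} C] [Abelian C] [IsGrothendieckAbelian.{w} C] :
    ∃ (J : C ⥤ C) (j : 𝟭 _ ⟶ J), ∀ F : C, Injective (J.obj F) ∧ Mono (j.app F) := by
  let d := functorialFactorizationData (monomorphisms C) (monomorphisms C).rlp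
  let A : C ⥤ Arrow C :=
    { obj := fun X => Arrow.mk (0 : X ⟶ (0 : C))
      map := fun f => Arrow.homMk f (𝟙 _) ((isZero_zero C).eq_of_tgt _ _) }
  let e : 𝟭 C ⟶ A ⋙ Arrow.leftFunc := { app := fun X => 𝟙 X, naturality := fun X Y f => (Category.comp_id f).trans (Category.id_comp f).symm }
  refine ⟨A ⋙ d.Z, e ≫ Functor.whiskerLeft A d.i, fun F => ⟨?_, ?_⟩⟩
  · have := d.hp (A.obj F)
    rw [injective_iff_rlp_monomorphisms_zero]
    have h0 : (0 : (A ⋙ d.Z).obj F ⟶ (0 : C)) = d.p.app (A.obj F) := (isZero_zero C).eq_of_tgt _ _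
    exact h0 ▸ this
  · haveI : Mono (d.i.app (A.obj F)) := d.hi _
    change Mono (𝟙 F ≫ d.i.app (A.obj F))
    exact @mono_comp _ _ _ _ _ (𝟙 F) _ _ (d.hi (A.obj F))
theorem isGA_presheafAb {C : Type u} [SmallCategory C] : IsGrothendieckAbelian.{u} (Cᵒᵖ ⥤ AddCommGrpCat.{u}) :=
  IsGrothendieckAbelian.of_equivalence (sheafBotEquivalence AddCommGrpCat.{u})
theorem isGA_presheafMod {C : Type u} [SmallCategory C] (O : Cᵒᵖ ⥤ RingCat.{u}) : IsGrothendieckAbelian.{u} (PresheafOfModules.{u} O) := by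
  haveI : HasSeparator (PresheafOfModules.{u} O) :=
    ⟨_, (isSeparator_of_isColimit_cofan (f := fun X : C => (PresheafOfModules.free O).obj (yoneda.obj X))
      (PresheafOfModules.freeYoneda.isSeparating O) (coproductIsCoproduct _))⟩
  exact { hasFilteredColimitsOfSize := ⟨fun _ _ _ => inferInstance⟩
          ab5OfSize := inferInstance }

end InjEmbLib
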